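import Mathlib
import Groth.Agent.FBaseLib.RedTensorScheme

/-!
# Associated maximal ideal of a tensor product over a fibre product
-/

set_option autoImplicit false
set_option backward.isDefEq.respectTransparency false
set_option linter.style.haveILetI false

universe u

open TensorProduct IsLocalRing Groth.Agent

namespace Groth.Agent.AssTensorLib

theorem smulCommClass {A B C : Type u} [CommRing A] [CommRing B] [CommRing C] [Algebra A C] [Algebra B C] :
    SMulCommClass B A C :=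
  ⟨fun b a c => by rw [Algebra.smul_def, Algebra.smul_def, Algebra.smul_def, Algebra.smul_def, mul_left_comm]⟩

attribute [local instance] smulCommClass

/-- Flatness of the map of quotients from flatness of isomorphic maps. -/
theorem flat_quotientMap {B B' C C' : Type u} [CommRing B] [CommRing B'] [CommRing C] [CommRing C']
    (φ : B →+* C) (β : B →+* B') (hβ : Function.Surjective β) (ζ : C →+* C') (hζ : Function.Surjective ζ)
    (ψ : B' →+* C') (hψ : ψ.Flat) (hc : ψ.comp β = ζ.comp φ)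
    (I : Ideal B) (hI : RingHom.ker β = I) (J : Ideal C) (hJ : RingHom.ker ζ = J) (hle : I ≤ J.comap φ) :
    (Ideal.quotientMap J φ hle).Flat := by
  subst hI hJ
  let eB := RingHom.quotientKerEquivOfSurjective hβ
  let eC := RingHom.quotientKerEquivOfSurjective hζ
  have h : Ideal.quotientMap (RingHom.ker ζ) φ hle = eC.symm.toRingHom.comp (ψ.comp eB.toRingHom) := by
    refine Ideal.Quotient.ringHom_ext (RingHom.ext fun b => eC.injective ?_)
    show ζ (φ b) = eC (eC.symm (ψ (β b)))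
    rw [RingEquiv.apply_symm_apply]
    exact (RingHom.congr_fun hc b).symm
  rw [h]
  exact ((RingHom.Flat.of_bijective eB.bijective).comp hψ).comp (RingHom.Flat.of_bijective eC.symm.bijective)

/-- Associated maximal ideal of `G / I G` over `B` and over `B / I`. -/
theorem mem_ass_quot_iff {B G : Type u} [CommRing B] [IsLocalRing B] [IsNoetherianRing B] [AddCommGroup G] [Module B G]
    (I : Ideal B) [IsLocalRing (B ⧸ I)] :
    maximalIdeal (B ⧸ I) ∈ associatedPrimes (B ⧸ I) ((B ⧸ I) ⊗[B] G) ↔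
      maximalIdeal B ∈ associatedPrimes B (G ⧸ I • (⊤ : Submodule B G)) := by
  let e := TensorProduct.quotTensorEquivQuotSMul G I
  refine (FBaseLib.ass_iff_of_semilinear (Ideal.Quotient.mk I) Ideal.Quotient.mk_surjective
    e.symm.toAddEquiv (fun r m => ?_)).symm
  show e.symm (r • m) = Ideal.Quotient.mk I r • e.symm m
  rw [map_smul]
  exact (algebraMap_smul (B ⧸ I) r (e.symm m)).symm

/-- The closed fibre of a map of quotients, over the big ring. -/
theorem mem_ass_fibMod_iff {B C : Type u} [CommRing B] [IsLocalRing B] [CommRing C] [IsLocalRing C]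
    [IsNoetherianRing C] [Algebra B C] (I : Ideal B) (hI : I ≤ maximalIdeal B) (K : Ideal C)
    [IsLocalRing (B ⧸ I)] [IsLocalRing (C ⧸ K)] [Algebra (B ⧸ I) (C ⧸ K)]
    (hχ : (algebraMap (B ⧸ I) (C ⧸ K)).comp (Ideal.Quotient.mk I) = (Ideal.Quotient.mk K).comp (algebraMap B C)) :
    maximalIdeal (C ⧸ K) ∈ associatedPrimes (C ⧸ K) (FBaseLib.FibMod (B ⧸ I) (C ⧸ K) (C ⧸ K)) ↔
      maximalIdeal C ∈ associatedPrimes C (C ⧸ (K ⊔ (maximalIdeal B).map (algebraMap B C))) := by
  have hm : maximalIdeal (B ⧸ I) = (maximalIdeal B).map (Ideal.Quotient.mk I) :=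
    (IsLocalRing.eq_maximalIdeal (Ideal.IsMaximal.map_of_surjective_of_ker_le Ideal.Quotient.mk_surjective
      (by rw [Ideal.mk_ker]; exact hI))).symm
  let L : Submodule (C ⧸ K) (C ⧸ K) :=
    (maximalIdeal (B ⧸ I)).map (algebraMap (B ⧸ I) (C ⧸ K)) • (⊤ : Submodule (C ⧸ K) (C ⧸ K))
  have hL : ∀ x : C, Ideal.Quotient.mk K x ∈ L ↔ x ∈ K ⊔ (maximalIdeal B).map (algebraMap B C) := fun x => by
    simp only [L, smul_eq_mul, Ideal.mul_top, hm, Ideal.map_map]
    rw [hχ, ← Ideal.map_map, ← Ideal.mem_comap,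
      Ideal.comap_map_of_surjective _ Ideal.Quotient.mk_surjective, ← RingHom.ker_eq_comap_bot, Ideal.mk_ker,
      sup_comm]
  letI : Module C ((C ⧸ K) ⧸ L) := Module.compHom _ (Ideal.Quotient.mk K)
  let ψ : C →ₗ[C] (C ⧸ K) ⧸ L :=
    { toFun := fun x => L.mkQ (Ideal.Quotient.mk K x)
      map_add' := fun x y => by rw [map_add, map_add]
      map_smul' := fun r x => by
        rw [smul_eq_mul, map_mul]
        exact map_smul L.mkQ (Ideal.Quotient.mk K r) (Ideal.Quotient.mk K x) }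
  have hker : LinearMap.ker ψ = K ⊔ (maximalIdeal B).map (algebraMap B C) := by
    ext x
    rw [LinearMap.mem_ker]
    exact (Submodule.Quotient.mk_eq_zero L).trans (hL x)
  let e := (Submodule.quotEquivOfEq _ _ hker.symm).trans
    (ψ.quotKerEquivOfSurjective (L.mkQ_surjective.comp Ideal.Quotient.mk_surjective))
  exact (FBaseLib.ass_iff_of_semilinear (Ideal.Quotient.mk K) Ideal.Quotient.mk_surjective
    e.toAddEquiv (fun r m => e.map_smul r m)).symm

variable {A B C : Type u} [CommRing A] [IsLocalRing A] [IsNoetherianRing A] [CommRing B] [IsLocalRing B]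
  [IsNoetherianRing B] [CommRing C] [IsLocalRing C] [IsNoetherianRing C] [Algebra A C] [Algebra B C]
  [IsLocalHom (algebraMap A C)] [IsLocalHom (algebraMap B C)]
  {E G : Type u} [AddCommGroup E] [Module A E] [AddCommGroup G] [Module B G]

/-- The maximal ideal of `C` is associated to `(C ⊗ G) ⊗ E` exactly when the three maximal ideals are associated to
`E`, to the fibre of `G` and to the ring of the fibre product of the residue fields. -/
theorem mem_ass_iff (I : Ideal B) (hI : I ≤ maximalIdeal B)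
    (hle : I ≤ ((maximalIdeal A).map (algebraMap A C)).comap (algebraMap B C))
    (hN : Module.Flat A (C ⊗[B] G))
    (hC : (Ideal.quotientMap ((maximalIdeal A).map (algebraMap A C)) (algebraMap B C) hle).Flat) :
    maximalIdeal C ∈ associatedPrimes C ((C ⊗[B] G) ⊗[A] E) ↔
      maximalIdeal A ∈ associatedPrimes A E ∧
        maximalIdeal B ∈ associatedPrimes B (G ⧸ I • (⊤ : Submodule B G)) ∧
        maximalIdeal C ∈ associatedPrimes C
          (C ⧸ ((maximalIdeal A).map (algebraMap A C) ⊔ (maximalIdeal B).map (algebraMap B C))) := by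
  haveI := hN
  have h₁ : maximalIdeal C ∈ associatedPrimes C ((C ⊗[B] G) ⊗[A] E) ↔ maximalIdeal A ∈ associatedPrimes A E ∧
      maximalIdeal C ∈ associatedPrimes C (FBaseLib.FibMod A C (C ⊗[B] G)) :=
    ⟨FBaseLib.mem_ass_of_mem_ass_tensor, fun h => FBaseLib.mem_ass_tensor h.1 h.2⟩
  rw [h₁]
  refine and_congr_right fun _ => ?_
  let K := (maximalIdeal A).map (algebraMap A C)
  have hK : K ≠ ⊤ := fun h => (maximalIdeal.isMaximal C).ne_top
    (eq_top_iff.2 (h.ge.trans (IsLocalRing.map_maximalIdeal_le (algebraMap A C))))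
  have hI' : I ≠ ⊤ := fun h => (maximalIdeal.isMaximal B).ne_top (eq_top_iff.2 (h.ge.trans hI))
  haveI : Nontrivial (B ⧸ I) := Ideal.Quotient.nontrivial_iff.2 hI'
  haveI : Nontrivial (C ⧸ K) := Ideal.Quotient.nontrivial_iff.2 hK
  haveI : IsLocalRing (B ⧸ I) := IsLocalRing.of_surjective' (Ideal.Quotient.mk I) Ideal.Quotient.mk_surjective
  haveI : IsLocalRing (C ⧸ K) := IsLocalRing.of_surjective' (Ideal.Quotient.mk K) Ideal.Quotient.mk_surjective
  let χ : B ⧸ I →+* C ⧸ K := Ideal.quotientMap K (algebraMap B C) hle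
  letI : Algebra (B ⧸ I) (C ⧸ K) := χ.toAlgebra
  haveI : Module.Flat (B ⧸ I) (C ⧸ K) := hC
  haveI : IsScalarTower B (B ⧸ I) (C ⧸ K) := .of_algebraMap_eq fun b => rfl
  haveI : IsLocalHom (algebraMap (B ⧸ I) (C ⧸ K)) := by
    refine ⟨fun x hx => ?_⟩
    obtain ⟨b, rfl⟩ := Ideal.Quotient.mk_surjective x
    haveI := Function.Surjective.isLocalHom (Ideal.Quotient.mk K) Ideal.Quotient.mk_surjective
    exact (isUnit_of_map_unit (algebraMap B C) b (isUnit_of_map_unit (Ideal.Quotient.mk K) _ hx)).map _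
  -- the fibre over `A`
  let eC : FBaseLib.FibMod A C (C ⊗[B] G) ≃ₗ[C] (C ⧸ K) ⊗[B] G :=
    (TensorProduct.quotTensorEquivQuotSMul (C ⊗[B] G) K).symm.trans
      ((AlgebraTensorModule.cancelBaseChange B C C (C ⧸ K) G))
  let eB : (C ⧸ K) ⊗[B ⧸ I] ((B ⧸ I) ⊗[B] G) ≃ₗ[C ⧸ K] (C ⧸ K) ⊗[B] G :=
    AlgebraTensorModule.cancelBaseChange B (B ⧸ I) (C ⧸ K) (C ⧸ K) G
  rw [FBaseLib.ass_iff_of_semilinear (Ideal.Quotient.mk K) Ideal.Quotient.mk_surjective
    (eC.toAddEquiv.trans eB.symm.toAddEquiv) (fun r m => by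
      show eB.symm (eC (r • m)) = _
      rw [map_smul, ← algebraMap_smul (C ⧸ K) r (eC m), map_smul]
      rfl)]
  have h₂ : maximalIdeal (C ⧸ K) ∈ associatedPrimes (C ⧸ K) ((C ⧸ K) ⊗[B ⧸ I] ((B ⧸ I) ⊗[B] G)) ↔
      maximalIdeal (B ⧸ I) ∈ associatedPrimes (B ⧸ I) ((B ⧸ I) ⊗[B] G) ∧
      maximalIdeal (C ⧸ K) ∈ associatedPrimes (C ⧸ K) (FBaseLib.FibMod (B ⧸ I) (C ⧸ K) (C ⧸ K)) :=
    ⟨FBaseLib.mem_ass_of_mem_ass_tensor, fun h => FBaseLib.mem_ass_tensor h.1 h.2⟩
  rw [h₂]
  refine and_congr ?_ ?_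
  · exact mem_ass_quot_iff I
  · exact mem_ass_fibMod_iff I hI K rfl

end Groth.Agent.AssTensorLib
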