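import Mathlib
import Groth.Agent.AssTensorLib.Ring
import Groth.Agent.PullbackMod.Flat
import Groth.Agent.FlatLocus.FibreStalk
import Groth.Agent.AssLib.Structure

/-!
# Associated points of `F ⊗_S G`
-/

set_option autoImplicit false
set_option backward.isDefEq.respectTransparency false
set_option linter.style.haveILetI false

universe u

open CategoryTheory CategoryTheory.Limits AlgebraicGeometry TensorProduct IsLocalRing Groth.Agent

attribute [local instance] AssTensorLib.smulCommClass

namespace Groth.Agent.AssTensorLib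

variable {X Y S : Scheme.{u}}

/-- The projection from the stalk at `y` to the stalk of the fibre at `w`, where `w` lies over `y`. -/
noncomputable def fibProj (g : Y ⟶ S) (s : S) (w : g.fiber s) (y : Y) (hy : g.fiberι s w = y) :
    Y.presheaf.stalk y ⟶ (g.fiber s).presheaf.stalk w :=
  Y.presheaf.stalkSpecializes (specializes_of_eq hy) ≫ (g.fiberι s).stalkMap w

theorem fibProj_surjective (g : Y ⟶ S) (s : S) (w : g.fiber s) (y : Y) (hy : g.fiberι s w = y) :
    Function.Surjective (fibProj g s w y hy).hom := by
  subst hy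
  simp only [fibProj, TopCat.Presheaf.stalkSpecializes_refl, Category.id_comp]
  exact FlatLocus.fiberι_stalkMap_surjective g s w

theorem ker_fibProj (g : Y ⟶ S) (s : S) (w : g.fiber s) (y : Y) (hy : g.fiberι s w = y) :
    RingHom.ker (fibProj g s w y hy).hom =
      (maximalIdeal (S.presheaf.stalk (g y))).map (g.stalkMap y).hom := by
  subst hy
  simp only [fibProj, TopCat.Presheaf.stalkSpecializes_refl, Category.id_comp]
  exact FlatLocus.ker_fiberι_stalkMap g s w

/-- Associated points of the restriction to a fibre. -/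
theorem mem_ass_fibre_iff [IsLocallyNoetherian Y] (g : Y ⟶ S) (G : Y.Modules) [Coh.IsQCoh G] (s : S)
    (w : g.fiber s) (y : Y) (hy : g.fiberι s w = y) :
    w ∈ AssSch.Ass ((Scheme.Modules.pullback (g.fiberι s)).obj G) ↔
      maximalIdeal (Y.presheaf.stalk y) ∈ associatedPrimes (Y.presheaf.stalk y)
        (G.presheaf.stalk y ⧸ (maximalIdeal (S.presheaf.stalk (g y))).map (g.stalkMap y).hom •
          (⊤ : Submodule (Y.presheaf.stalk y) (G.presheaf.stalk y))) := by
  subst hy
  let y := g.fiberι s w
  let B := Y.presheaf.stalk y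
  let B' := (g.fiber s).presheaf.stalk w
  let M := ((Scheme.Modules.pullback (g.fiberι s)).obj G).presheaf.stalk w
  letI : Algebra B B' := ((g.fiberι s).stalkMap w).hom.toAlgebra
  letI : Module B M := Module.compHom M ((g.fiberι s).stalkMap w).hom
  haveI : IsScalarTower B B' M := .of_algebraMap_smul fun _ _ => rfl
  have hsurj : Function.Surjective (algebraMap B B') := FlatLocus.fiberι_stalkMap_surjective g s w
  haveI : IsNoetherianRing B' := isNoetherianRing_of_surjective B B' (algebraMap B B') hsurj
  let I := (maximalIdeal (S.presheaf.stalk (g y))).map (g.stalkMap y).hom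
  have hker : RingHom.ker (algebraMap B B') = I := FlatLocus.ker_fiberι_stalkMap g s w
  let c : (B ⧸ I) ≃ₐ[B] B' :=
    (Ideal.quotientEquivAlgOfEq B hker.symm).trans (Ideal.quotientKerAlgEquivOfSurjective (f := Algebra.ofId B B') hsurj)
  let l : (G.presheaf.stalk y ⧸ I • (⊤ : Submodule B (G.presheaf.stalk y))) ≃ₗ[B] M :=
    (TensorProduct.quotTensorEquivQuotSMul (G.presheaf.stalk y) I).symm.trans
      ((TensorProduct.congr c.toLinearEquiv (LinearEquiv.refl _ _)).trans
        ((PullbackMod.isBaseChange_pullStalkL (g.fiberι s) G w).equiv.restrictScalars B))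
  exact (FBaseLib.ass_iff_of_semilinear _ hsurj l.toAddEquiv fun r m => l.map_smul r m).symm

variable (f : X ⟶ S) (g : Y ⟶ S)

theorem isLocallyNoetherian_of_iso {T T' : Scheme.{u}} (e : T ≅ T') [IsLocallyNoetherian T'] :
    IsLocallyNoetherian T :=
  isLocallyNoetherian_of_isOpenImmersion e.hom

/-- The canonical morphism from `Spec κ(x) ×_S Spec κ(y)` to the fibre product. -/
noncomputable abbrev resMap (x : X) (y : Y) :
    pullback (X.fromSpecResidueField x ≫ f) (Y.fromSpecResidueField y ≫ g) ⟶ pullback f g :=
  pullback.map (X.fromSpecResidueField x ≫ f) (Y.fromSpecResidueField y ≫ g) f g (X.fromSpecResidueField x)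
    (Y.fromSpecResidueField y) (𝟙 S) (Category.comp_id _) (Category.comp_id _)

theorem fst_resMap (x : X) (y : Y) (t : ↥(pullback (X.fromSpecResidueField x ≫ f) (Y.fromSpecResidueField y ≫ g))) :
    pullback.fst f g (resMap f g x y t) = x := by
  rw [← Scheme.Hom.comp_apply, pullback.lift_fst, Scheme.Hom.comp_apply, Scheme.fromSpecResidueField_apply]

theorem snd_resMap (x : X) (y : Y) (t : ↥(pullback (X.fromSpecResidueField x ≫ f) (Y.fromSpecResidueField y ≫ g))) :
    pullback.snd f g (resMap f g x y t) = y := by
  rw [← Scheme.Hom.comp_apply, pullback.lift_snd, Scheme.Hom.comp_apply, Scheme.fromSpecResidueField_apply]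

/-- The fibre product of residue fields as an iterated fibre. -/
theorem exists_iso (x : X) (y : Y) :
    ∃ e : pullback (X.fromSpecResidueField x ≫ f) (Y.fromSpecResidueField y ≫ g) ≅
        ((pullback.fst f g).fiberι x ≫ pullback.snd f g).fiber y,
      e.hom ≫ ((pullback.fst f g).fiberι x ≫ pullback.snd f g).fiberι y ≫ (pullback.fst f g).fiberι x =
        resMap f g x y := by
  let p := pullback.fst f g
  let q' := p.fiberι x ≫ pullback.snd f g
  have h1 : IsPullback (p.fiberToSpecResidueField x) q' (X.fromSpecResidueField x ≫ f) g :=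
    ((IsPullback.of_hasPullback p (X.fromSpecResidueField x)).flip.paste_vert (IsPullback.of_hasPullback f g).flip.flip)
  have h2 : IsPullback (q'.fiberι y ≫ p.fiberToSpecResidueField x) (q'.fiberToSpecResidueField y)
      (X.fromSpecResidueField x ≫ f) (Y.fromSpecResidueField y ≫ g) :=
    (IsPullback.of_hasPullback q' (Y.fromSpecResidueField y)).flip.flip.paste_horiz h1 |>.flip.flip
  refine ⟨h2.isoPullback.symm, ?_⟩
  rw [Iso.symm_hom, Iso.inv_comp_eq]
  apply pullback.hom_ext
  · simp only [Category.assoc, resMap, pullback.lift_fst]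
    rw [IsPullback.isoPullback_hom_fst_assoc, Category.assoc]
    exact congrArg (q'.fiberι y ≫ ·) (pullback.condition (f := p) (g := X.fromSpecResidueField x))
  · simp only [Category.assoc, resMap, pullback.lift_snd]
    rw [IsPullback.isoPullback_hom_snd_assoc]
    exact (pullback.condition (f := q') (g := Y.fromSpecResidueField y))

variable [IsLocallyNoetherian X] [IsLocallyNoetherian Y] [IsLocallyNoetherian (pullback f g)]

theorem isLocallyNoetherian_res (x : X) (y : Y) :
    IsLocallyNoetherian (pullback (X.fromSpecResidueField x ≫ f) (Y.fromSpecResidueField y ≫ g)) := by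
  obtain ⟨e, -⟩ := exists_iso f g x y
  haveI := FBaseLib.isLocallyNoetherian_fibre (pullback.fst f g) x
  haveI := FBaseLib.isLocallyNoetherian_fibre ((pullback.fst f g).fiberι x ≫ pullback.snd f g) y
  exact isLocallyNoetherian_of_iso e

/-- The stalk condition at a point of `Spec κ(x) ×_S Spec κ(y)`. -/
theorem mem_ass_res_iff (x : X) (y : Y)
    (t : ↥(pullback (X.fromSpecResidueField x ≫ f) (Y.fromSpecResidueField y ≫ g))) :
    t ∈ AssSch.Ass (Coh.structureModule (pullback (X.fromSpecResidueField x ≫ f) (Y.fromSpecResidueField y ≫ g))) ↔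
      maximalIdeal ((pullback f g).presheaf.stalk (resMap f g x y t)) ∈
        associatedPrimes ((pullback f g).presheaf.stalk (resMap f g x y t))
          ((pullback f g).presheaf.stalk (resMap f g x y t) ⧸
            ((maximalIdeal (X.presheaf.stalk (pullback.fst f g (resMap f g x y t)))).map
                ((pullback.fst f g).stalkMap (resMap f g x y t)).hom ⊔
              (maximalIdeal (Y.presheaf.stalk (pullback.snd f g (resMap f g x y t)))).map
                ((pullback.snd f g).stalkMap (resMap f g x y t)).hom)) := by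
  obtain ⟨e, he⟩ := exists_iso f g x y
  haveI := isLocallyNoetherian_res f g x y
  let p := pullback.fst f g
  let q := pullback.snd f g
  haveI := FBaseLib.isLocallyNoetherian_fibre p x
  haveI := FBaseLib.isLocallyNoetherian_fibre (p.fiberι x ≫ q) y
  rw [← he]
  let w := e.hom t
  let κ := (p.fiberι x ≫ q).fiberι y
  let v := κ w
  let z := p.fiberι x v
  show t ∈ _ ↔ maximalIdeal ((pullback f g).presheaf.stalk z) ∈ associatedPrimes ((pullback f g).presheaf.stalk z)
          ((pullback f g).presheaf.stalk z ⧸ ((maximalIdeal (X.presheaf.stalk (p z))).map (p.stalkMap z).hom ⊔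
              (maximalIdeal (Y.presheaf.stalk (q z))).map (q.stalkMap z).hom))
  refine (AssLib.isAssPoint_structureModule_iff t).trans ?_
  let ζ := ((p.fiberι x).stalkMap v).hom
  let η := (κ.stalkMap w).hom
  let ε := (e.hom.stalkMap t).hom
  let φ := ε.comp (η.comp ζ)
  have hε : Function.Bijective ε := ConcreteCategory.bijective_of_isIso (e.hom.stalkMap t)
  have hζ : Function.Surjective ζ := FlatLocus.fiberι_stalkMap_surjective p x v
  have hsurj : Function.Surjective φ :=
    hε.2.comp ((FlatLocus.fiberι_stalkMap_surjective (p.fiberι x ≫ q) y w).comp hζ)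
  let K := (maximalIdeal (X.presheaf.stalk (p z))).map (p.stalkMap z).hom ⊔
              (maximalIdeal (Y.presheaf.stalk (q z))).map (q.stalkMap z).hom
  have hker : RingHom.ker φ = K := by
    rw [RingHom.ker_comp_of_injective _ hε.1, ← RingHom.comap_ker,
      FlatLocus.ker_fiberι_stalkMap (p.fiberι x ≫ q) y w, Scheme.Hom.stalkMap_comp, CommRingCat.hom_comp,
      ← Ideal.map_map, Ideal.comap_map_of_surjective _ hζ, ← RingHom.ker_eq_comap_bot,
      FlatLocus.ker_fiberι_stalkMap p x v, sup_comm]
    rfl
  let c := (Ideal.quotEquivOfEq hker.symm).trans (RingHom.quotientKerEquivOfSurjective hsurj)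
  refine (FBaseLib.ass_iff_of_semilinear φ hsurj c.toAddEquiv fun r m => ?_).symm
  obtain ⟨m, rfl⟩ := Ideal.Quotient.mk_surjective m
  exact map_mul φ r m

omit [IsLocallyNoetherian X] [IsLocallyNoetherian Y] [IsLocallyNoetherian (pullback f g)] in
/-- Every point of the fibre product lies on the fibre product of the residue fields of its images. -/
theorem exists_resMap_eq (z : ↥(pullback f g)) :
    ∃ t, resMap f g (pullback.fst f g z) (pullback.snd f g z) t = z := by
  obtain ⟨e, he⟩ := exists_iso f g (pullback.fst f g z) (pullback.snd f g z)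
  let p := pullback.fst f g
  obtain ⟨v, hv⟩ : z ∈ Set.range (p.fiberι (p z)) := by rw [p.range_fiberι]; exact rfl
  obtain ⟨w, hw⟩ : v ∈ Set.range ((p.fiberι (p z) ≫ pullback.snd f g).fiberι (pullback.snd f g z)) := by
    rw [Scheme.Hom.range_fiberι]
    show pullback.snd f g (p.fiberι (p z) v) = _
    rw [hv]
  refine ⟨e.inv w, ?_⟩
  rw [← he, ← Scheme.Hom.comp_apply, Iso.inv_hom_id_assoc, Scheme.Hom.comp_apply, hw]
  exact hv

/-- The criterion at a point of the fibre product, in terms of stalks. -/
theorem mem_ass_tensor_iff_stalk (F : X.Modules) [Coh.IsQCoh F] (G : Y.Modules) [Coh.IsQCoh G]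
    (hG : FlatMod.IsFlatOver g G) (z : ↥(pullback f g)) :
    z ∈ AssSch.Ass (CohB1.tensorMod ((Scheme.Modules.pullback (pullback.fst f g)).obj F)
        ((Scheme.Modules.pullback (pullback.snd f g)).obj G)) ↔
      pullback.fst f g z ∈ AssSch.Ass F ∧
      maximalIdeal (Y.presheaf.stalk (pullback.snd f g z)) ∈ associatedPrimes (Y.presheaf.stalk (pullback.snd f g z))
        (G.presheaf.stalk (pullback.snd f g z) ⧸
          (maximalIdeal (S.presheaf.stalk (g (pullback.snd f g z)))).map (g.stalkMap (pullback.snd f g z)).hom •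
            (⊤ : Submodule (Y.presheaf.stalk (pullback.snd f g z)) (G.presheaf.stalk (pullback.snd f g z)))) ∧
      maximalIdeal ((pullback f g).presheaf.stalk z) ∈ associatedPrimes ((pullback f g).presheaf.stalk z)
        ((pullback f g).presheaf.stalk z ⧸
          ((maximalIdeal (X.presheaf.stalk (pullback.fst f g z))).map ((pullback.fst f g).stalkMap z).hom ⊔
            (maximalIdeal (Y.presheaf.stalk (pullback.snd f g z))).map ((pullback.snd f g).stalkMap z).hom)) := by
  let p := pullback.fst f g
  let q := pullback.snd f g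
  obtain ⟨x, hx'⟩ : ∃ x, p z = x := ⟨_, rfl⟩
  obtain ⟨z', rfl⟩ : z ∈ Set.range (p.fiberι x) := by rw [p.range_fiberι]; exact hx'
  let z := p.fiberι x z'
  let A := X.presheaf.stalk (p z)
  let B := Y.presheaf.stalk (q z)
  let C := (pullback f g).presheaf.stalk z
  let I := (maximalIdeal (S.presheaf.stalk (g (q z)))).map (g.stalkMap (q z)).hom
  letI : Algebra A C := (p.stalkMap z).hom.toAlgebra
  letI : Algebra B C := (q.stalkMap z).hom.toAlgebra
  haveI : IsLocalHom (algebraMap A C) := p.toLRSHom.prop z
  haveI : IsLocalHom (algebraMap B C) := q.toLRSHom.prop z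
  haveI : IsLocalHom (g.stalkMap (q z)).hom := g.toLRSHom.prop (q z)
  -- the fibre of the first projection over the fibre of `g`
  have hx : p z = x := by
    have : z ∈ p ⁻¹' {x} := by rw [← p.range_fiberι x]; exact ⟨z', rfl⟩
    exact this
  have hsq : p.fiberι x ≫ q ≫ g = (p.fiberToSpecResidueField x ≫ Spec.map (f.residueFieldMap x)) ≫
      S.fromSpecResidueField (f x) := by
    rw [← pullback.condition (f := f) (g := g), ← Category.assoc,
      show p.fiberι x ≫ p = p.fiberToSpecResidueField x ≫ X.fromSpecResidueField x from pullback.condition,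
      Category.assoc, Category.assoc, Scheme.Hom.SpecMap_residueFieldMap_fromSpecResidueField]
  let h : p.fiber x ⟶ g.fiber (f x) :=
    pullback.lift (p.fiberι x ≫ q) (p.fiberToSpecResidueField x ≫ Spec.map (f.residueFieldMap x))
      (by rw [Category.assoc]; exact hsq)
  have hh : h ≫ g.fiberι (f x) = p.fiberι x ≫ q := pullback.lift_fst _ _ _
  have hpb : IsPullback h (p.fiberToSpecResidueField x) (g.fiberToSpecResidueField (f x))
      (Spec.map (f.residueFieldMap x)) := by
    refine IsPullback.of_right (h₁₂ := g.fiberι (f x)) (h₂₂ := S.fromSpecResidueField (f x)) ?_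
      (pullback.lift_snd _ _ _) (IsPullback.of_hasPullback g (S.fromSpecResidueField (f x)))
    rw [hh, Scheme.Hom.SpecMap_residueFieldMap_fromSpecResidueField]
    exact ((IsPullback.of_hasPullback p (X.fromSpecResidueField x)).flip.paste_vert
      (IsPullback.of_hasPullback f g).flip.flip).flip
  haveI : Flat (Spec.map (f.residueFieldMap x)) := by
    rw [HasRingHomProperty.Spec_iff (P := @Flat)]
    letI := (f.residueFieldMap x).hom.toAlgebra
    exact RingHom.flat_algebraMap_iff.2 inferInstance
  haveI : Flat h := MorphismProperty.of_isPullback hpb.flip inferInstance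
  have hy : g.fiberι (f x) (h z') = q z := by
    rw [← Scheme.Hom.comp_apply, hh]
    rfl
  have hcomm : (h.stalkMap z').hom.comp (fibProj g (f x) (h z') (q z) hy).hom =
      ((p.fiberι x).stalkMap z').hom.comp (q.stalkMap z).hom := by
    rw [← CommRingCat.hom_comp, ← CommRingCat.hom_comp, ← Scheme.Hom.stalkMap_comp]
    congr 1
    rw [fibProj, Category.assoc, ← Scheme.Hom.stalkMap_comp, Scheme.Hom.stalkMap_congr_hom _ _ hh z',
      TopCat.Presheaf.stalkCongr_hom, ← Category.assoc, TopCat.Presheaf.stalkSpecializes_comp,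
      TopCat.Presheaf.stalkSpecializes_refl]
    exact Category.id_comp _
  have hkerA : RingHom.ker ((p.fiberι x).stalkMap z').hom = (maximalIdeal A).map (algebraMap A C) :=
    FlatLocus.ker_fiberι_stalkMap p x z'
  have hle : I ≤ ((maximalIdeal A).map (algebraMap A C)).comap (algebraMap B C) := by
    rw [← hkerA, RingHom.comap_ker]
    intro b hb
    rw [RingHom.mem_ker, RingHom.algebraMap_toAlgebra, ← hcomm, RingHom.comp_apply,
      show (fibProj g (f x) (h z') (q z) hy).hom b = 0 from (ker_fibProj g (f x) (h z') (q z) hy).ge hb, map_zero]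
  have hC : (Ideal.quotientMap ((maximalIdeal A).map (algebraMap A C)) (algebraMap B C) hle).Flat :=
    flat_quotientMap (algebraMap B C) (fibProj g (f x) (h z') (q z) hy).hom (fibProj_surjective g (f x) (h z') (q z) hy)
      ((p.fiberι x).stalkMap z').hom (FlatLocus.fiberι_stalkMap_surjective p x z') (h.stalkMap z').hom
      (Flat.stalkMap h z') hcomm I (ker_fibProj g (f x) (h z') (q z) hy) _ hkerA hle
  -- the pullback of `G` is flat over `X`
  let qG := (Scheme.Modules.pullback q).obj G
  haveI : Coh.IsQCoh qG := PullbackMod.isQCoh_pullback q G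
  letI : Module A (qG.presheaf.stalk z) := FlatMod.moduleStalkOver p qG z
  haveI : IsScalarTower A C (qG.presheaf.stalk z) := .of_algebraMap_smul fun _ _ => rfl
  haveI : Module.Flat A (qG.presheaf.stalk z) :=
    PullbackMod.isFlatOverAt_baseChange (IsPullback.of_hasPullback f g).flip G z (hG _)
  obtain ⟨φG, -⟩ := PullbackMod.exists_pullback_stalk_equiv q G z
  have hN : Module.Flat A (C ⊗[B] G.presheaf.stalk (q z)) := Module.Flat.of_linearEquiv (φG.restrictScalars A)
  -- the stalk of the tensor product
  obtain ⟨φF, -⟩ := PullbackMod.exists_pullback_stalk_equiv p F z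
  let eT : (C ⊗[B] G.presheaf.stalk (q z)) ⊗[A] F.presheaf.stalk (p z) ≃ₗ[C]
      (CohB1.tensorMod ((Scheme.Modules.pullback p).obj F) qG).presheaf.stalk z :=
    (((AlgebraTensorModule.cancelBaseChange A C C (C ⊗[B] G.presheaf.stalk (q z)) (F.presheaf.stalk (p z))).symm.trans
      (TensorProduct.congr φG φF)).trans (TensorProduct.comm C _ _)).trans
      (DCohLib.stalkTensor z ((Scheme.Modules.pullback p).obj F) qG)
  have h1 : z ∈ AssSch.Ass (CohB1.tensorMod ((Scheme.Modules.pullback p).obj F) qG) ↔
      maximalIdeal C ∈ associatedPrimes C ((C ⊗[B] G.presheaf.stalk (q z)) ⊗[A] F.presheaf.stalk (p z)) := by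
    rw [LinearEquiv.AssociatedPrimes.eq eT]
    rfl
  exact h1.trans (mem_ass_iff I (IsLocalRing.map_maximalIdeal_le (g.stalkMap (q z)).hom) hle hN hC)

/-- The associated points of `F ⊗_S G`. -/
theorem mem_ass_tensor_iff (F : X.Modules) [Coh.IsQCoh F] (G : Y.Modules) [Coh.IsQCoh G]
    (hG : FlatMod.IsFlatOver g G) (x : X) (y : Y)
    (t : ↥(pullback (X.fromSpecResidueField x ≫ f) (Y.fromSpecResidueField y ≫ g)))
    (w : g.fiber (f x)) (hw : g.fiberι (f x) w = y) :
    resMap f g x y t ∈ AssSch.Ass (CohB1.tensorMod ((Scheme.Modules.pullback (pullback.fst f g)).obj F)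
        ((Scheme.Modules.pullback (pullback.snd f g)).obj G)) ↔
      x ∈ AssSch.Ass F ∧ w ∈ AssSch.Ass ((Scheme.Modules.pullback (g.fiberι (f x))).obj G) ∧
        t ∈ AssSch.Ass (Coh.structureModule (pullback (X.fromSpecResidueField x ≫ f) (Y.fromSpecResidueField y ≫ g))) := by
  rw [mem_ass_tensor_iff_stalk f g F G hG, mem_ass_res_iff, mem_ass_fibre_iff g G (f x) w
    (pullback.snd f g (resMap f g x y t)) (hw.trans (snd_resMap f g x y t).symm)]
  exact and_congr (by rw [fst_resMap]) Iff.rfl

end Groth.Agent.AssTensorLib
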