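import Mathlib
import Groth.Agent.AssTensorLib.Scheme
import Groth.Agent.S2512
import Groth.Agent.FBaseLib.NoEmbScheme

/-!
# The set of associated points of `F ⊗_S G`
-/

set_option autoImplicit false
set_option backward.isDefEq.respectTransparency false
set_option linter.style.haveILetI false

universe u

open CategoryTheory CategoryTheory.Limits AlgebraicGeometry TensorProduct IsLocalRing Groth.Agent

namespace Groth.Agent.AssTensorLib

variable {X Y S : Scheme.{u}} (f : X ⟶ S) (g : Y ⟶ S)
  [IsLocallyNoetherian X] [IsLocallyNoetherian Y] [IsLocallyNoetherian (pullback f g)]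
  (F : X.Modules) [Coh.IsQCoh F] (G : Y.Modules) [Coh.IsQCoh G]

omit [IsLocallyNoetherian X] [IsLocallyNoetherian Y] [IsLocallyNoetherian (pullback f g)] in
theorem map_fst_eq_map_snd (z : ↥(pullback f g)) : g (pullback.snd f g z) = f (pullback.fst f g z) := by
  rw [← Scheme.Hom.comp_apply, ← Scheme.Hom.comp_apply, pullback.condition]

/-- The associated points of `F ⊗_S G` with their data. -/
theorem mem_ass_iff_exists (hG : FlatMod.IsFlatOver g G) (z : ↥(pullback f g)) :
    z ∈ AssSch.Ass (CohB1.tensorMod ((Scheme.Modules.pullback (pullback.fst f g)).obj F)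
        ((Scheme.Modules.pullback (pullback.snd f g)).obj G)) ↔
      ∃ (x : X) (w : g.fiber (f x)),
        x ∈ AssSch.Ass F ∧ w ∈ AssSch.Ass ((Scheme.Modules.pullback (g.fiberι (f x))).obj G) ∧
        z ∈ resMap f g x (g.fiberι (f x) w) ''
          AssSch.Ass (Coh.structureModule (pullback (X.fromSpecResidueField x ≫ f)
            (Y.fromSpecResidueField (g.fiberι (f x) w) ≫ g))) := by
  constructor
  · intro hz
    obtain ⟨w, hw⟩ : pullback.snd f g z ∈ Set.range (g.fiberι (f (pullback.fst f g z))) := by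
      rw [g.range_fiberι]; exact map_fst_eq_map_snd f g z
    obtain ⟨t, ht⟩ := exists_resMap_eq f g z
    rw [← ht] at hz
    obtain ⟨h1, h2, h3⟩ := (mem_ass_tensor_iff f g F G hG _ _ t w hw).1 hz
    refine ⟨pullback.fst f g z, w, h1, h2, ?_⟩
    rw [hw]
    exact ⟨t, h3, ht⟩
  · rintro ⟨x, w, h1, h2, t, h3, rfl⟩
    exact (mem_ass_tensor_iff f g F G hG x _ t w rfl).2 ⟨h1, h2, h3⟩

omit [IsLocallyNoetherian X] [IsLocallyNoetherian (pullback f g)] in
/-- Associated points of a flat module in terms of the base and the fibre. -/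
theorem mem_ass_flat_iff [IsLocallyNoetherian S] (hG : FlatMod.IsFlatOver g G) (s : S) (w : g.fiber s) :
    g.fiberι s w ∈ AssSch.Ass G ↔
      s ∈ AssSch.Ass (Coh.structureModule S) ∧ w ∈ AssSch.Ass ((Scheme.Modules.pullback (g.fiberι s)).obj G) := by
  obtain ⟨y, hy⟩ : ∃ y, g.fiberι s w = y := ⟨_, rfl⟩
  have hs : g y = s := by
    have : g.fiberι s w ∈ g ⁻¹' {s} := by rw [← g.range_fiberι s]; exact ⟨w, rfl⟩
    rw [← hy]; exact this
  rw [mem_ass_fibre_iff g G s w y hy, hy, ← hs]
  let R := S.presheaf.stalk (g y)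
  let B := Y.presheaf.stalk y
  letI : Algebra R B := (g.stalkMap y).hom.toAlgebra
  haveI : IsLocalHom (algebraMap R B) := g.toLRSHom.prop y
  letI : Module R (G.presheaf.stalk y) := FlatMod.moduleStalkOver g G y
  haveI : IsScalarTower R B (G.presheaf.stalk y) := .of_algebraMap_smul fun _ _ => rfl
  haveI : Module.Flat R (G.presheaf.stalk y) := hG y
  have h1 : y ∈ AssSch.Ass G ↔ maximalIdeal B ∈ associatedPrimes B (G.presheaf.stalk y ⊗[R] R) := by
    rw [LinearEquiv.AssociatedPrimes.eq (AlgebraTensorModule.rid R B (G.presheaf.stalk y))]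
    rfl
  rw [h1]
  refine Iff.trans ⟨FBaseLib.mem_ass_of_mem_ass_tensor, fun h => FBaseLib.mem_ass_tensor h.1 h.2⟩ ?_
  exact and_congr (AssLib.isAssPoint_structureModule_iff (g y)).symm Iff.rfl

omit [IsLocallyNoetherian (pullback f g)] [IsLocallyNoetherian X] [IsLocallyNoetherian Y] in
theorem apply_fiberι (s : S) (w : g.fiber s) : g (g.fiberι s w) = s := by
  have : g.fiberι s w ∈ g ⁻¹' {s} := by rw [← g.range_fiberι s]; exact ⟨w, rfl⟩
  exact this

omit [IsLocallyNoetherian X] [IsLocallyNoetherian Y] [IsLocallyNoetherian (pullback f g)] in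
theorem isEmbedding_resMap (x : X) (y : Y) : Topology.IsEmbedding (resMap f g x y) := by
  obtain ⟨e, he⟩ := exists_iso f g x y
  rw [← he]
  exact (e.hom ≫ ((pullback.fst f g).fiberι x ≫ pullback.snd f g).fiberι y ≫ (pullback.fst f g).fiberι x).isEmbedding

/-- The fibre product of two residue fields has no embedded points. -/
theorem noEmbedded_res (x : X) (y : Y) (hxy : g y = f x) :
    AssSch.NoEmbedded (Coh.structureModule (pullback (X.fromSpecResidueField x ≫ f) (Y.fromSpecResidueField y ≫ g))) := by
  haveI := isLocallyNoetherian_res f g x y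
  let a := f.residueFieldMap x
  let b := (S.residueFieldCongr hxy).inv ≫ g.residueFieldMap y
  have ha : Spec.map a ≫ S.fromSpecResidueField (f x) = X.fromSpecResidueField x ≫ f :=
    Scheme.Hom.SpecMap_residueFieldMap_fromSpecResidueField f x
  have hb : Spec.map b ≫ S.fromSpecResidueField (f x) = Y.fromSpecResidueField y ≫ g := by
    rw [Spec.map_comp, Category.assoc, ← Scheme.Hom.SpecMap_residueFieldMap_fromSpecResidueField g y]
    congr 1
    rw [← Scheme.residueFieldCongr_fromSpecResidueField hxy, ← Category.assoc, ← Spec.map_comp]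
    simp
  letI := a.hom.toAlgebra
  letI := b.hom.toAlgebra
  let R := X.residueField x ⊗[S.residueField (f x)] Y.residueField y
  have hsq : IsPullback (pullback.fst (Spec.map a) (Spec.map b)) (pullback.snd (Spec.map a) (Spec.map b))
      (X.fromSpecResidueField x ≫ f) (Y.fromSpecResidueField y ≫ g) := by
    rw [← ha, ← hb]
    exact IsPullback.of_isLimit (pullbackIsPullbackOfCompMono (Spec.map a) (Spec.map b) (S.fromSpecResidueField (f x)))
  let e : pullback (X.fromSpecResidueField x ≫ f) (Y.fromSpecResidueField y ≫ g) ≅ Spec (CommRingCat.of R) :=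
    hsq.isoPullback.symm ≪≫ pullbackSpecIso (S.residueField (f x)) (X.residueField x) (Y.residueField y)
  haveI : IsLocallyNoetherian (Spec (CommRingCat.of R)) := isLocallyNoetherian_of_iso e.symm
  haveI : IsNoetherianRing R := by
    have h := isLocallyNoetherian_Spec.1 (inferInstance : IsLocallyNoetherian (Spec (CommRingCat.of R)))
    exact h
  have hmin : associatedPrimes R R ⊆ minimalPrimes R := S2512.result
  haveI : IsAffine (pullback (X.fromSpecResidueField x ≫ f) (Y.fromSpecResidueField y ≫ g)) := .of_isIso e.hom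
  let T := pullback (X.fromSpecResidueField x ≫ f) (Y.fromSpecResidueField y ≫ g)
  refine FBaseLib.noEmbedded_of_cover fun t => ⟨⊤, isAffineOpen_top T, trivial, ?_⟩
  let E : R ≃+* Γ(T, ⊤) :=
    ((Scheme.ΓSpecIso (CommRingCat.of R)).symm ≪≫ Scheme.Γ.mapIso e.op).commRingCatIsoToRingEquiv
  haveI : IsNoetherianRing Γ(T, ⊤) := QCohLib.isNoetherianRing_section (isAffineOpen_top T)
  exact FBaseLib.ass_subset_min_of_equiv E hmin

end Groth.Agent.AssTensorLib
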